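import Cfsg.Agent.Lib.J1Group.Checks

/-!
Centralizer counts of class representatives (part 1).
-/

set_option autoImplicit false
set_option maxRecDepth 100000

namespace CfsgLib.J1Group

theorem cent_rep1 : Nat.beq (centCount (mulP (hget 94) (tget 752))) 120 = true := by
  decide +kernel

theorem cent_rep2 : Nat.beq (centCount (mulP (hget 98) (tget 1436))) 30 = true := by
  decide +kernel

theorem cent_rep3 : Nat.beq (centCount (mulP (hget 105) (tget 1125))) 30 = true := by
  decide +kernel

theorem cent_rep4 : Nat.beq (centCount (mulP (hget 98) (tget 23))) 30 = true := by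
  decide +kernel

theorem cent_rep5 : Nat.beq (centCount (mulP (hget 22) (tget 215))) 6 = true := by
  decide +kernel

theorem cent_rep6 : Nat.beq (centCount (mulP (hget 44) (tget 842))) 7 = true := by
  decide +kernel

theorem cent_rep7 : Nat.beq (centCount (mulP (hget 106) (tget 989))) 10 = true := by
  decide +kernel

end CfsgLib.J1Group
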