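import Cfsg.Agent.Lib.J1Group.Checks

/-!
Centralizer counts of class representatives (part 2).
-/

set_option autoImplicit false
set_option maxRecDepth 100000

namespace CfsgLib.J1Group

theorem cent_rep8 : Nat.beq (centCount (mulP (hget 51) (tget 1334))) 10 = true := by
  decide +kernel

theorem cent_rep9 : Nat.beq (centCount (mulP (hget 82) (tget 678))) 11 = true := by
  decide +kernel

theorem cent_rep10 : Nat.beq (centCount (mulP (hget 43) (tget 299))) 15 = true := by
  decide +kernel

theorem cent_rep11 : Nat.beq (centCount (mulP (hget 62) (tget 1360))) 15 = true := by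
  decide +kernel

theorem cent_rep12 : Nat.beq (centCount (mulP (hget 39) (tget 1))) 19 = true := by
  decide +kernel

theorem cent_rep13 : Nat.beq (centCount (mulP (hget 21) (tget 423))) 19 = true := by
  decide +kernel

theorem cent_rep14 : Nat.beq (centCount (mulP (hget 92) (tget 590))) 19 = true := by
  decide +kernel

end CfsgLib.J1Group
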