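import Cfsg.Agent.Lib.J1Group.Packed
import Cfsg.Agent.Lib.J1Group.Data

/-!
The finite checks on the data of Janko's group.
-/

set_option autoImplicit false
set_option maxRecDepth 100000
set_option Elab.async false

namespace CfsgLib.J1Group

/-- lookup in a list of blocks of forty entries -/
def get2 {α : Type} (d : List (List α)) (dflt : α) (i : ℕ) : α :=
  (d.getD (i / 40) []).getD (i % 40) dflt

/-- the packed identity -/
def idP : ℕ := pack7 R 1 1024 1048576 1073741824 1099511627776 1125899906842624 1152921504606846976

/-- the packed transversal element -/
def tget (i : ℕ) : ℕ := get2 tsData 0 i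

/-- the packed stabiliser element -/
def hget (k : ℕ) : ℕ := hsData.getD k 0

/-- the generator with the given number -/
def genP (g : ℕ) : ℕ := if g = 0 then codeX else codeY

/-- the stabiliser generator with the given number -/
def hgenP (g : ℕ) : ℕ := if g = 0 then genA else genB

/-- leading entry inverse -/
def invDigit (x : ℕ) : ℕ := x ^ 9 % 11

/-- the first nonzero digit of a row -/
def leadDigit (r : ℕ) : ℕ :=
  [dig B r 1, dig B r 2, dig B r 3, dig B r 4, dig B r 5, dig B r 6].foldl
    (fun acc d => if acc = 0 then d else acc) (dig B r 0)

/-- the row scaled to leading entry one -/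
def nmP (r : ℕ) : ℕ := redRow (r * invDigit (leadDigit r))

/-- the line of the fixed row moved by a packed matrix -/
def keyP (a : ℕ) : ℕ := nmP (mulP vCode a)

theorem vRows_ok :
    ((List.range 110).all fun k => vRows.contains (mulP vCode (hget k))) = true := by
  decide +kernel

/-- the values in one block of a range satisfy a check -/
def blockOK (f : ℕ → Bool) (n k i : ℕ) : Bool :=
  (List.range' (k * i) k).all fun j => Nat.ble n j || f j

theorem range_all_of_blocks {f : ℕ → Bool} {n : ℕ} (k m : ℕ) (hn : n ≤ k * m)
    (h : ∀ i < m, blockOK f n k i = true) : (List.range n).all f = true := by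
  refine List.all_eq_true.2 fun j hj => ?_
  rw [List.mem_range] at hj
  have hk : 0 < k := by
    rcases Nat.eq_zero_or_pos k with rfl | hk
    · simp at hn; omega
    · exact hk
  have hi : j / k < m := Nat.div_lt_of_lt_mul (lt_of_lt_of_le hj hn)
  have hmem : j ∈ List.range' (k * (j / k)) k := by
    rw [List.mem_range'_1]
    have := Nat.div_add_mod j k
    have := Nat.mod_lt j hk
    omega
  have := List.all_eq_true.1 (h _ hi) j hmem
  simpa [Nat.not_le.2 hj] using this

/-- the keys of one transversal element -/
def keyRow (j : ℕ) : Bool := vRows.all fun r => Nat.beq (nmP (mulP r (tget j))) (get2 keyData 0 j)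

/-- two neighbours in the order of the keys -/
def ordRow (k : ℕ) : Bool :=
  Nat.blt (get2 keyData 0 (ordData.getD k 0)) (get2 keyData 0 (ordData.getD (k + 1) 0))

theorem keys_block0 : blockOK keyRow 1596 200 0 = true := by decide +kernel

theorem keys_block1 : blockOK keyRow 1596 200 1 = true := by decide +kernel

theorem keys_block2 : blockOK keyRow 1596 200 2 = true := by decide +kernel

theorem keys_block3 : blockOK keyRow 1596 200 3 = true := by decide +kernel

theorem keys_block4 : blockOK keyRow 1596 200 4 = true := by decide +kernel

theorem keys_block5 : blockOK keyRow 1596 200 5 = true := by decide +kernel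

theorem keys_block6 : blockOK keyRow 1596 200 6 = true := by decide +kernel

theorem keys_block7 : blockOK keyRow 1596 200 7 = true := by decide +kernel

theorem keys_ok : ((List.range 1596).all fun j =>
    vRows.all fun r => Nat.beq (nmP (mulP r (tget j))) (get2 keyData 0 j)) = true :=
  range_all_of_blocks (f := keyRow) 200 8 (by norm_num) fun i hi => match i, hi with
      | 0, _ => keys_block0
      | 1, _ => keys_block1
      | 2, _ => keys_block2
      | 3, _ => keys_block3
      | 4, _ => keys_block4
      | 5, _ => keys_block5
      | 6, _ => keys_block6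
      | 7, _ => keys_block7
      | n + 8, hi => absurd hi (by omega)

theorem ord_length : Nat.beq ordData.length 1596 = true := by decide +kernel

theorem ord_block0 : blockOK ordRow 1595 200 0 = true := by decide +kernel

theorem ord_block1 : blockOK ordRow 1595 200 1 = true := by decide +kernel

theorem ord_block2 : blockOK ordRow 1595 200 2 = true := by decide +kernel

theorem ord_block3 : blockOK ordRow 1595 200 3 = true := by decide +kernel

theorem ord_block4 : blockOK ordRow 1595 200 4 = true := by decide +kernel

theorem ord_block5 : blockOK ordRow 1595 200 5 = true := by decide +kernel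

theorem ord_block6 : blockOK ordRow 1595 200 6 = true := by decide +kernel

theorem ord_block7 : blockOK ordRow 1595 200 7 = true := by decide +kernel

theorem ord_ok : (Nat.beq ordData.length 1596 &&
    (List.range 1595).all fun k =>
      Nat.blt (get2 keyData 0 (ordData.getD k 0)) (get2 keyData 0 (ordData.getD (k + 1) 0))) =
        true :=
  Bool.and_eq_true_iff.2 ⟨ord_length,
    range_all_of_blocks (f := ordRow) 200 8 (by norm_num) fun i hi => match i, hi with
      | 0, _ => ord_block0
      | 1, _ => ord_block1
      | 2, _ => ord_block2
      | 3, _ => ord_block3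
      | 4, _ => ord_block4
      | 5, _ => ord_block5
      | 6, _ => ord_block6
      | 7, _ => ord_block7
      | n + 8, hi => absurd hi (by omega)⟩

theorem ord_lt : (ordData.all fun i => Nat.blt i 1596) = true := by decide +kernel

theorem par_ok : (Nat.beq (tget 0) idP && (List.range 1595).all fun m =>
    let p := get2 parData (0, 0) (m + 1)
    Nat.blt p.1 (m + 1) && Nat.beq (tget (m + 1)) (mulP (tget p.1) (genP p.2))) = true := by
  decide +kernel

theorem stepX_ok : ((List.range 1596).all fun i =>
    let s := get2 stepXData (0, 0) i
    Nat.blt s.1 110 && (Nat.blt s.2 1596 &&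
      Nat.beq (mulP (tget i) codeX) (mulP (hget s.1) (tget s.2)))) = true := by
  decide +kernel

theorem stepY_ok : ((List.range 1596).all fun i =>
    let s := get2 stepYData (0, 0) i
    Nat.blt s.1 110 && (Nat.blt s.2 1596 &&
      Nat.beq (mulP (tget i) codeY) (mulP (hget s.1) (tget s.2)))) = true := by
  decide +kernel

theorem hpar_ok : (Nat.beq (hget 0) idP && (List.range 109).all fun m =>
    let p := hparData.getD (m + 1) (0, 0)
    Nat.blt p.1 (m + 1) && Nat.beq (hget (m + 1)) (mulP (hget p.1) (hgenP p.2))) = true := by
  decide +kernel

theorem hstep_ok : ((List.range 110).all fun k =>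
    let s := hstepData.getD k (0, 0)
    Nat.blt s.1 110 && (Nat.blt s.2 110 && (Nat.beq (mulP (hget k) genA) (hget s.1) &&
      Nat.beq (mulP (hget k) genB) (hget s.2)))) = true := by
  decide +kernel

theorem hs_nodup : ((List.range 110).all fun k => (List.range k).all fun l =>
    !Nat.beq (hget l) (hget k)) = true := by
  decide +kernel

theorem schreier_ok : (Nat.blt schreierA.1 1596 && Nat.blt schreierA.2.2 1596 &&
    Nat.blt schreierB.1 1596 && Nat.blt schreierB.2.2 1596 &&
    Nat.beq genA (mulP (mulP (tget schreierA.1) (genP schreierA.2.1))
      (transP (tget schreierA.2.2))) &&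
    Nat.beq genB (mulP (mulP (tget schreierB.1) (genP schreierB.2.1))
      (transP (tget schreierB.2.2)))) = true := by
  decide +kernel

/-- number of commuting elements in one coset -/
def cosetCount (x : ℕ) (zs : List ℕ) (j : ℕ) : ℕ :=
  zs.countP fun z => Nat.beq z (mulP (mulP (tget j) x) (transP (tget j)))

/-- the conjugates of a packed matrix by the stabiliser -/
def hConj (x : ℕ) : List ℕ :=
  (List.range 110).map fun k => mulP (transP (hget k)) (mulP x (hget k))

/-- number of elements commuting with a packed matrix -/
def centCount (x : ℕ) : ℕ :=
  let zs := hConj x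
  ((List.range 1596).map (cosetCount x zs)).sum

end CfsgLib.J1Group
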