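import Cfsg.Agent.Lib.J1Group.Group
import Cfsg.Agent.Lib.J1Group.CentData1
import Cfsg.Agent.Lib.J1Group.CentData2

/-!
The fifteen classes of Janko's matrix group: orders, centralizers, element orders and simplicity.
-/

set_option autoImplicit false
set_option maxRecDepth 100000

namespace CfsgLib.J1Group

open Cfsg

/-- row of the class table -/
def classRow (i : Fin 15) : ℕ × ℕ × ℕ × ℕ × ℕ := classData.getD i (0, 0, 0, 0, 0)

/-- order of a representative -/
def repOrd (i : Fin 15) : ℕ := (classRow i).1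

/-- trace of a representative -/
def repTr (i : Fin 15) : ℕ := (classRow i).2.1

/-- centralizer order of a representative -/
def repCent (i : Fin 15) : ℕ := (classRow i).2.2.1

/-- packed representative -/
def repP (i : Fin 15) : ℕ := mulP (hget (classRow i).2.2.2.1) (tget (classRow i).2.2.2.2)

theorem classRow_lt : ∀ i : Fin 15, (classRow i).2.2.2.1 < 110 ∧ (classRow i).2.2.2.2 < 1596 := by
  decide +kernel

/-- class representative -/
noncomputable def rep (i : Fin 15) : Spor.J1 :=
  pEl (⟨_, (classRow_lt i).1⟩, ⟨_, (classRow_lt i).2⟩)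

theorem jEnc_rep (i : Fin 15) : jEnc (rep i) = repP i := by
  rw [rep, pEl, jEnc_mul, jEnc_hEl, jEnc_tEl]; rfl

/-- powers of a packed matrix -/
def powP (a : ℕ) : ℕ → ℕ
  | 0 => idP
  | n + 1 => mulP (powP a n) a

theorem jEnc_pow (g : Spor.J1) : ∀ n, jEnc (g ^ n) = powP (jEnc g) n
  | 0 => by rw [pow_zero, jEnc_one, powP]
  | n + 1 => by rw [pow_succ, jEnc_mul, jEnc_pow g n, powP]

theorem rep_order_check : ((List.finRange 15).all fun i =>
    Nat.beq (powP (repP i) (repOrd i)) idP && Nat.blt 0 (repOrd i) &&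
      ((List.range (repOrd i)).all fun m => Nat.beq m 0 || !Nat.beq (powP (repP i) m) idP) &&
      Nat.beq (traceP (repP i)) (repTr i)) = true := by
  decide +kernel

theorem orderOf_rep (i : Fin 15) : orderOf (rep i) = repOrd i := by
  have h := rep_order_check
  simp only [List.all_eq_true, List.mem_finRange, List.mem_range, Bool.and_eq_true,
    Bool.or_eq_true, Bool.not_eq_true', ← Bool.not_eq_true, Nat.beq_eq, Nat.blt_eq,
    true_implies] at h
  obtain ⟨⟨⟨h1, h2⟩, h3⟩, -⟩ := h i
  rw [orderOf_eq_iff h2]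
  refine ⟨jEnc_injective (by rw [jEnc_pow, jEnc_rep, h1, jEnc_one]), fun m hm hm0 e => ?_⟩
  rcases h3 m hm with h | h
  · omega
  · exact h (by rw [← jEnc_rep, ← jEnc_pow, e, jEnc_one])

/-- the trace of an element -/
def jTrace (g : Spor.J1) : ℕ := traceP (jEnc g)

theorem jTrace_rep (i : Fin 15) : jTrace (rep i) = repTr i := by
  have h := rep_order_check
  simp only [List.all_eq_true, List.mem_finRange, Bool.and_eq_true, Nat.beq_eq, true_implies] at h
  rw [jTrace, jEnc_rep]; exact (h i).2

theorem jTrace_conj (c g : Spor.J1) : jTrace (c * g * c⁻¹) = jTrace g := by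
  simp only [jTrace, jEnc, gEnc, traceP_enc, Subgroup.coe_mul, InvMemClass.coe_inv,
    Units.val_mul, Matrix.trace_units_conj]

theorem rep_pair_injective : Function.Injective fun i : Fin 15 => (repOrd i, repTr i) := by
  decide +kernel

theorem eq_of_isConj_rep {i j : Fin 15} (h : IsConj (rep i) (rep j)) : i = j := by
  obtain ⟨c, hc⟩ := isConj_iff.1 h
  apply rep_pair_injective
  refine Prod.ext ?_ ?_
  · show repOrd i = repOrd j
    rw [← orderOf_rep, ← orderOf_rep, ← hc]
    exact ((MulAut.conj c).orderOf_eq (rep i)).symm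
  · show repTr i = repTr j
    rw [← jTrace_rep, ← jTrace_rep, ← hc, jTrace_conj]

theorem repP_mem : ∀ i : Fin 15, i ≠ 0 → (repP i, repCent i) ∈
    ([
      (mulP (hget 94) (tget 752), 120),
      (mulP (hget 98) (tget 1436), 30),
      (mulP (hget 105) (tget 1125), 30),
      (mulP (hget 98) (tget 23), 30),
      (mulP (hget 22) (tget 215), 6),
      (mulP (hget 44) (tget 842), 7),
      (mulP (hget 106) (tget 989), 10),
      (mulP (hget 51) (tget 1334), 10),
      (mulP (hget 82) (tget 678), 11),
      (mulP (hget 43) (tget 299), 15),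
      (mulP (hget 62) (tget 1360), 15),
      (mulP (hget 39) (tget 1), 19),
      (mulP (hget 21) (tget 423), 19),
      (mulP (hget 92) (tget 590), 19)] : List (ℕ × ℕ)) := by
  decide +kernel

theorem centCount_eq_of {a b n m : ℕ} (h : Nat.beq (centCount b) n = true) (e : a = b)
    (c : m = n) : centCount a = m := by
  subst e c; exact Nat.eq_of_beq_eq_true h

theorem centCount_repP (i : Fin 15) (h : i ≠ 0) : centCount (repP i) = repCent i := by
  have hm := repP_mem i h
  simp only [List.mem_cons, List.not_mem_nil, or_false, Prod.mk.injEq] at hm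
  rcases hm with ⟨e, c⟩ | ⟨e, c⟩ | ⟨e, c⟩ | ⟨e, c⟩ | ⟨e, c⟩ | ⟨e, c⟩ | ⟨e, c⟩ | ⟨e, c⟩ | ⟨e, c⟩ | ⟨e, c⟩ | ⟨e, c⟩ | ⟨e, c⟩ | ⟨e, c⟩ | ⟨e, c⟩
  · exact centCount_eq_of cent_rep1 e c
  · exact centCount_eq_of cent_rep2 e c
  · exact centCount_eq_of cent_rep3 e c
  · exact centCount_eq_of cent_rep4 e c
  · exact centCount_eq_of cent_rep5 e c
  · exact centCount_eq_of cent_rep6 e c
  · exact centCount_eq_of cent_rep7 e c
  · exact centCount_eq_of cent_rep8 e c
  · exact centCount_eq_of cent_rep9 e c
  · exact centCount_eq_of cent_rep10 e c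
  · exact centCount_eq_of cent_rep11 e c
  · exact centCount_eq_of cent_rep12 e c
  · exact centCount_eq_of cent_rep13 e c
  · exact centCount_eq_of cent_rep14 e c

theorem natCard_centralizer_rep (i : Fin 15) :
    Nat.card (Subgroup.centralizer ({rep i} : Set Spor.J1)) = repCent i := by
  by_cases h0 : i = 0
  · subst h0
    have h1 : rep 0 = 1 := orderOf_eq_one_iff.1 ((orderOf_rep 0).trans (by decide +kernel))
    rw [h1, show Subgroup.centralizer ({(1 : Spor.J1)} : Set Spor.J1) = ⊤ from
      eq_top_iff.2 fun g _ => Subgroup.mem_centralizer_singleton_iff.2 (by simp),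
      Subgroup.card_top, natCard_J1]
    decide +kernel
  · rw [natCard_centralizer, jEnc_rep, centCount_repP i h0]

/-- class size -/
def repSize (i : Fin 15) : ℕ := 175560 / repCent i

theorem repCent_dvd : ∀ i : Fin 15, 0 < repCent i ∧ repSize i * repCent i = 175560 := by
  decide +kernel

theorem natCard_class_rep (i : Fin 15) : Nat.card {g : Spor.J1 // IsConj (rep i) g} = repSize i := by
  have h1 := Nat.card_congr (MulAction.orbitEquivQuotientStabilizer (ConjAct Spor.J1) (rep i))
  have h2 := Subgroup.card_eq_card_quotient_mul_card_subgroup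
    (MulAction.stabilizer (ConjAct Spor.J1) (rep i))
  rw [← h1, ConjAct.stabilizer_eq_centralizer] at h2
  have h3 : Nat.card (Subgroup.centralizer ({ConjAct.toConjAct (rep i)} : Set (ConjAct Spor.J1))) =
      repCent i := natCard_centralizer_rep i
  have h4 : Nat.card (MulAction.orbit (ConjAct Spor.J1) (rep i)) =
      Nat.card {g : Spor.J1 // IsConj (rep i) g} :=
    Nat.card_congr (Equiv.subtypeEquivRight fun g => by
      rw [ConjAct.mem_orbit_conjAct, isConj_comm])
  have h5 : Nat.card (ConjAct Spor.J1) = 175560 := natCard_J1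
  obtain ⟨hpos, hmul⟩ := repCent_dvd i
  rw [h5, h3, h4] at h2
  exact Nat.eq_of_mul_eq_mul_right hpos (h2.symm.trans hmul.symm)

theorem sum_repSize : ∑ i : Fin 15, repSize i = 175560 := by decide +kernel

theorem exists_isConj_rep (g : Spor.J1) : ∃ i, IsConj (rep i) g := by
  let f : (Σ i : Fin 15, {g : Spor.J1 // IsConj (rep i) g}) → Spor.J1 := fun p => p.2.1
  have hinj : Function.Injective f := by
    rintro ⟨i, a, ha⟩ ⟨j, b, hb⟩ (rfl : a = b)
    obtain rfl := eq_of_isConj_rep (ha.trans hb.symm)
    rfl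
  have hbij : Function.Bijective f := by
    refine (Nat.bijective_iff_injective_and_card f).2 ⟨hinj, ?_⟩
    rw [Nat.card_sigma, natCard_J1, ← sum_repSize]
    exact Finset.sum_congr rfl fun i _ => natCard_class_rep i
  obtain ⟨⟨i, a, ha⟩, rfl⟩ := hbij.2 g
  exact ⟨i, ha⟩

/-- sums of all sublists -/
def allSums : List ℕ → List ℕ
  | [] => [0]
  | a :: r => allSums r ++ (allSums r).map (a + ·)

theorem sum_filter_mem_allSums {α : Type*} (f : α → ℕ) (P : α → Bool) :
    ∀ l : List α, ((l.filter P).map f).sum ∈ allSums (l.map f)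
  | [] => by simp [allSums]
  | a :: r => by
    have ih := sum_filter_mem_allSums f P r
    cases hP : P a
    · rw [List.filter_cons_of_neg (by simp [hP])]
      simp only [List.map_cons, allSums, List.mem_append]
      exact Or.inl ih
    · rw [List.filter_cons_of_pos hP]
      simp only [List.map_cons, List.sum_cons, allSums, List.mem_append]
      exact Or.inr (List.mem_map.2 ⟨_, ih, rfl⟩)

theorem allSums_check : ((allSums ((List.finRange 15).tail.map repSize)).all fun s =>
    Nat.beq s 0 || Nat.beq s 175559 || Nat.beq s 87779 || !Nat.beq (175560 % (1 + s)) 0) = true := by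
  decide +kernel

theorem generator_pows : (Nat.beq (powP codeX 7) idP && Nat.beq (powP codeY 5) idP) = true := by
  decide +kernel

/-- the group has no subgroup of index two -/
theorem index_ne_two (N : Subgroup Spor.J1) [N.Normal] : N.index ≠ 2 := by
  intro h2
  have hodd : ∀ (g : Spor.J1) (n : ℕ), Odd n → g ^ n = 1 → g ∈ N := by
    rintro g n ⟨k, rfl⟩ hg
    have hsq : g ^ 2 ∈ N := Subgroup.sq_mem_of_index_two h2 g
    have h1 : g * (g ^ 2) ^ k = 1 := by rw [← pow_mul, ← pow_succ', hg]
    rw [eq_inv_of_mul_eq_one_left h1]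
    exact inv_mem (pow_mem hsq k)
  have h := generator_pows
  simp only [Bool.and_eq_true, Nat.beq_eq] at h
  have hX : (⟨Spor.jankoX, jankoX_mem⟩ : Spor.J1) ∈ N := hodd _ 7 (by decide) (jEnc_injective (by
    rw [jEnc_pow, jEnc_one, show jEnc ⟨Spor.jankoX, jankoX_mem⟩ = codeX from gEnc_X, h.1]))
  have hY : (⟨Spor.jankoY, jankoY_mem⟩ : Spor.J1) ∈ N := hodd _ 5 (by decide) (jEnc_injective (by
    rw [jEnc_pow, jEnc_one, show jEnc ⟨Spor.jankoY, jankoY_mem⟩ = codeY from gEnc_Y, h.2]))
  have hle : Spor.J1 ≤ N.map Spor.J1.subtype := by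
    refine (Subgroup.closure_le _).2 ?_
    rintro x (rfl | hx)
    · exact ⟨_, hX, rfl⟩
    · rw [Set.mem_singleton_iff] at hx; subst hx; exact ⟨_, hY, rfl⟩
  have htop : N = ⊤ := eq_top_iff.2 fun g _ => by
    obtain ⟨m, hm, he⟩ := hle g.2
    exact (Subtype.ext he : m = g) ▸ hm
  rw [htop, Subgroup.index_top] at h2
  exact absurd h2 (by norm_num)

theorem isSimpleGroup_J1 : IsSimpleGroup Spor.J1 := by
  classical
  have : Nontrivial Spor.J1 := Finite.one_lt_card_iff_nontrivial.1 (by rw [natCard_J1]; norm_num)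
  refine { eq_bot_or_eq_top_of_normal := fun N hN => ?_ }
  let P : Fin 15 → Bool := fun i => decide (rep i ∈ N)
  have hcard : Nat.card N = ((((List.finRange 15).filter P).map repSize).sum) := by
    have e : N ≃ Σ i : {i : Fin 15 // P i = true}, {g : Spor.J1 // IsConj (rep i.1) g} := by
      refine (Equiv.ofBijective (fun p => (⟨p.2.1, ?_⟩ : N)) ⟨?_, ?_⟩).symm
      · obtain ⟨c, hc⟩ := isConj_iff.1 p.2.2
        rw [← hc]
        exact hN.conj_mem _ (by simpa [P] using p.1.2) c
      · rintro ⟨⟨i, hi⟩, a, ha⟩ ⟨⟨j, hj⟩, b, hb⟩ h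
        have hab : a = b := congrArg Subtype.val h
        subst hab
        obtain rfl := eq_of_isConj_rep (ha.trans hb.symm)
        rfl
      · rintro ⟨g, hg⟩
        obtain ⟨i, hi⟩ := exists_isConj_rep g
        obtain ⟨c, hc⟩ := isConj_iff.1 hi.symm
        exact ⟨⟨⟨i, by simpa [P, ← hc] using hN.conj_mem g hg c⟩, g, hi⟩, rfl⟩
    rw [Nat.card_congr e, Nat.card_sigma]
    simp only [natCard_class_rep]
    rw [← Finset.sum_subtype (Finset.univ.filter fun i => P i = true) (by simp) repSize,
      ← List.sum_toFinset repSize ((List.nodup_finRange 15).filter P)]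
    congr 1
    ext i; simp
  have h0 : P 0 = true := by
    have h1 : rep 0 = 1 := orderOf_eq_one_iff.1 ((orderOf_rep 0).trans (by decide +kernel))
    simp [P, h1, one_mem]
  have hlist : List.finRange 15 = 0 :: (List.finRange 15).tail := by decide +kernel
  have hs0 : repSize 0 = 1 := by decide +kernel
  have hmem := sum_filter_mem_allSums repSize P (List.finRange 15).tail
  rw [hlist, List.filter_cons_of_pos h0, List.map_cons, List.sum_cons, hs0] at hcard
  have h := List.all_eq_true.1 allSums_check _ hmem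
  simp only [Bool.or_eq_true, Bool.not_eq_true', ← Bool.not_eq_true, Nat.beq_eq] at h
  rcases h with ((h | h) | h) | h
  · exact Or.inl (Subgroup.card_eq_one.1 (by omega))
  · exact Or.inr (Subgroup.eq_top_of_card_eq N (by rw [natCard_J1]; omega))
  · have hmul := N.card_mul_index
    rw [natCard_J1, show Nat.card N = 87780 by omega] at hmul
    exact absurd (show N.index = 2 by omega) (index_ne_two N)
  · exact absurd (Nat.mod_eq_zero_of_dvd (natCard_J1 ▸ hcard ▸ Subgroup.card_subgroup_dvd_card N)) h

theorem range_orderOf_J1 : Set.range (orderOf : Spor.J1 → ℕ) = Set.range repOrd := by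
  ext n
  constructor
  · rintro ⟨g, rfl⟩
    obtain ⟨i, hi⟩ := exists_isConj_rep g
    obtain ⟨c, hc⟩ := isConj_iff.1 hi
    exact ⟨i, by rw [← orderOf_rep, ← hc]; exact ((MulAut.conj c).orderOf_eq (rep i)).symm⟩
  · rintro ⟨i, rfl⟩
    exact ⟨rep i, orderOf_rep i⟩

end CfsgLib.J1Group
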