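import Cfsg.Agent.Lib.J1Group.Checks

/-!
Janko's matrix group as a bijective image of `110 × 1596` pairs, and exact centralizer orders.
-/

set_option autoImplicit false

namespace CfsgLib.J1Group

open Cfsg

/-- the packed form of an element of the general linear group -/
def gEnc (g : GL (Fin 7) (ZMod 11)) : ℕ := enc (g : Matrix (Fin 7) (Fin 7) (ZMod 11))

theorem gEnc_inj {g h : GL (Fin 7) (ZMod 11)} (e : gEnc g = gEnc h) : g = h :=
  Units.ext (enc_injective e)

theorem gEnc_mul (g h : GL (Fin 7) (ZMod 11)) : gEnc (g * h) = mulP (gEnc g) (gEnc h) := by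
  simp only [gEnc, Units.val_mul, mulP_enc]

theorem gEnc_one : gEnc 1 = idP := by
  simp only [gEnc, Units.val_one]; decide +kernel

theorem gEnc_X : gEnc Spor.jankoX = codeX := by decide +kernel

theorem gEnc_Y : gEnc Spor.jankoY = codeY := by decide +kernel

theorem transpose_mul_self {g : GL (Fin 7) (ZMod 11)} (hg : g ∈ Spor.J1) :
    ((g⁻¹ : GL (Fin 7) (ZMod 11)) : Matrix (Fin 7) (Fin 7) (ZMod 11)) =
      (g : Matrix (Fin 7) (Fin 7) (ZMod 11)).transpose := by
  unfold Spor.J1 at hg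
  induction hg using Subgroup.closure_induction with
  | mem x hx =>
    rcases hx with rfl | hx
    · rfl
    · rw [Set.mem_singleton_iff] at hx; subst hx; rfl
  | one => simp
  | mul x y _ _ hx hy => simp only [mul_inv_rev, Units.val_mul, hx, hy, Matrix.transpose_mul]
  | inv x _ hx =>
    have h := congrArg Matrix.transpose hx
    rw [Matrix.transpose_transpose] at h
    rw [inv_inv]; exact h.symm

theorem gEnc_inv {g : GL (Fin 7) (ZMod 11)} (hg : g ∈ Spor.J1) :
    gEnc g⁻¹ = transP (gEnc g) := by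
  simp only [gEnc, transpose_mul_self hg, transP_enc]

/-- the packed number comes from the group -/
def InJ (a : ℕ) : Prop := ∃ g ∈ Spor.J1, gEnc g = a

theorem InJ.mul {a b : ℕ} (ha : InJ a) (hb : InJ b) : InJ (mulP a b) := by
  obtain ⟨g, hg, rfl⟩ := ha
  obtain ⟨h, hh, rfl⟩ := hb
  exact ⟨g * h, mul_mem hg hh, gEnc_mul g h⟩

theorem InJ.trans {a : ℕ} (ha : InJ a) : InJ (transP a) := by
  obtain ⟨g, hg, rfl⟩ := ha
  exact ⟨g⁻¹, inv_mem hg, gEnc_inv hg⟩

theorem jankoX_mem : Spor.jankoX ∈ Spor.J1 :=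
  Subgroup.subset_closure (Set.mem_insert _ _)

theorem jankoY_mem : Spor.jankoY ∈ Spor.J1 :=
  Subgroup.subset_closure (Set.mem_insert_of_mem _ rfl)

theorem inJ_genP (g : ℕ) : InJ (genP g) := by
  unfold genP
  split
  · exact ⟨_, jankoX_mem, gEnc_X⟩
  · exact ⟨_, jankoY_mem, gEnc_Y⟩

theorem inJ_tget {i : ℕ} (hi : i < 1596) : InJ (tget i) := by
  induction i using Nat.strong_induction_on with
  | _ i ih =>
    have h := par_ok
    simp only [Bool.and_eq_true, Nat.beq_eq, List.all_eq_true, List.mem_range, Nat.blt_eq] at h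
    rcases Nat.eq_zero_or_pos i with rfl | hpos
    · rw [h.1]; exact ⟨1, one_mem _, gEnc_one⟩
    · obtain ⟨m, rfl⟩ : ∃ m, i = m + 1 := ⟨i - 1, by omega⟩
      obtain ⟨h1, h2⟩ := h.2 m (by omega)
      rw [h2]
      exact (ih _ h1 (by omega)).mul (inJ_genP _)

theorem inJ_hgenP (g : ℕ) : InJ (hgenP g) := by
  have h := schreier_ok
  simp only [Bool.and_eq_true, Nat.beq_eq, Nat.blt_eq] at h
  obtain ⟨⟨⟨⟨⟨a1, a2⟩, b1⟩, b2⟩, ea⟩, eb⟩ := h
  unfold hgenP
  split
  · rw [ea]; exact ((inJ_tget a1).mul (inJ_genP _)).mul (inJ_tget a2).trans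
  · rw [eb]; exact ((inJ_tget b1).mul (inJ_genP _)).mul (inJ_tget b2).trans

theorem inJ_hget {k : ℕ} (hk : k < 110) : InJ (hget k) := by
  induction k using Nat.strong_induction_on with
  | _ k ih =>
    have h := hpar_ok
    simp only [Bool.and_eq_true, Nat.beq_eq, List.all_eq_true, List.mem_range, Nat.blt_eq] at h
    rcases Nat.eq_zero_or_pos k with rfl | hpos
    · rw [h.1]; exact ⟨1, one_mem _, gEnc_one⟩
    · obtain ⟨m, rfl⟩ : ∃ m, k = m + 1 := ⟨k - 1, by omega⟩
      obtain ⟨h1, h2⟩ := h.2 m (by omega)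
      rw [h2]
      exact (ih _ h1 (by omega)).mul (inJ_hgenP _)

/-- the transversal element -/
noncomputable def tEl (j : Fin 1596) : Spor.J1 :=
  ⟨(inJ_tget j.2).choose, (inJ_tget j.2).choose_spec.1⟩

/-- the stabiliser element -/
noncomputable def hEl (k : Fin 110) : Spor.J1 :=
  ⟨(inJ_hget k.2).choose, (inJ_hget k.2).choose_spec.1⟩

/-- the packed form of an element of the group -/
def jEnc (g : Spor.J1) : ℕ := gEnc (g : GL (Fin 7) (ZMod 11))

theorem jEnc_injective : Function.Injective jEnc := fun _ _ e => Subtype.ext (gEnc_inj e)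

theorem jEnc_mul (g h : Spor.J1) : jEnc (g * h) = mulP (jEnc g) (jEnc h) := gEnc_mul _ _

theorem jEnc_one : jEnc 1 = idP := gEnc_one

theorem jEnc_inv (g : Spor.J1) : jEnc g⁻¹ = transP (jEnc g) := gEnc_inv g.2

theorem jEnc_tEl (j : Fin 1596) : jEnc (tEl j) = tget j := (inJ_tget j.2).choose_spec.2

theorem jEnc_hEl (k : Fin 110) : jEnc (hEl k) = hget k := (inJ_hget k.2).choose_spec.2

theorem hget_injective {k l : Fin 110} (h : hget k = hget l) : k = l := by
  have hn := hs_nodup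
  simp only [List.all_eq_true, List.mem_range, Bool.not_eq_true', ← Bool.not_eq_true, Nat.beq_eq] at hn
  rcases lt_trichotomy (k : ℕ) l with hlt | heq | hgt
  · exact absurd h (hn l l.2 k hlt)
  · exact Fin.ext heq
  · exact absurd h.symm (hn k k.2 l hgt)

theorem hEl_injective : Function.Injective hEl := fun k l h => hget_injective (by
  simpa only [jEnc_hEl] using congrArg jEnc h)

theorem hEl_zero : hEl 0 = 1 := by
  apply jEnc_injective
  rw [jEnc_hEl, jEnc_one]
  have h := hpar_ok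
  simp only [Bool.and_eq_true, Nat.beq_eq] at h
  exact h.1

theorem tEl_zero : tEl 0 = 1 := by
  apply jEnc_injective
  rw [jEnc_tEl, jEnc_one]
  have h := par_ok
  simp only [Bool.and_eq_true, Nat.beq_eq] at h
  exact h.1

theorem hEl_mul (i k : Fin 110) : ∃ m : Fin 110, hEl i * hEl k = hEl m := by
  suffices H : ∀ n : ℕ, ∀ hn : n < 110, ∃ m : Fin 110, hEl i * hEl ⟨n, hn⟩ = hEl m from H k k.2
  intro n
  induction n using Nat.strong_induction_on with
  | _ n ih =>
    intro hn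
    rcases Nat.eq_zero_or_pos n with rfl | hpos
    · exact ⟨i, by rw [show (⟨0, hn⟩ : Fin 110) = 0 from rfl, hEl_zero, mul_one]⟩
    · obtain ⟨q, rfl⟩ : ∃ q, n = q + 1 := ⟨n - 1, by omega⟩
      have h := hpar_ok
      simp only [Bool.and_eq_true, Nat.beq_eq, List.all_eq_true, List.mem_range, Nat.blt_eq] at h
      obtain ⟨hp, hq⟩ := h.2 q (by omega)
      obtain ⟨m, hm⟩ := ih _ hp (by omega)
      have hs := hstep_ok
      simp only [Bool.and_eq_true, Nat.beq_eq, List.all_eq_true, List.mem_range, Nat.blt_eq] at hs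
      obtain ⟨s1, s2, sa, sb⟩ := hs m m.2
      obtain ⟨e, he, hge⟩ := inJ_hgenP (hparData.getD (q + 1) (0, 0)).2
      have hge' : jEnc ⟨e, he⟩ = hgenP (hparData.getD (q + 1) (0, 0)).2 := hge
      have hprod : hEl ⟨q + 1, hn⟩ = hEl ⟨_, lt_trans hp hn⟩ * ⟨e, he⟩ := by
        apply jEnc_injective
        rw [jEnc_hEl, jEnc_mul, jEnc_hEl, hge']
        exact hq
      rw [hprod, ← mul_assoc, hm]
      by_cases hg : (hparData.getD (q + 1) (0, 0)).2 = 0
      · refine ⟨⟨_, s1⟩, jEnc_injective ?_⟩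
        rw [jEnc_mul, jEnc_hEl, jEnc_hEl, hge', hgenP, if_pos hg]
        exact sa
      · refine ⟨⟨_, s2⟩, jEnc_injective ?_⟩
        rw [jEnc_mul, jEnc_hEl, jEnc_hEl, hge', hgenP, if_neg hg]
        exact sb

/-- the element with given coordinates -/
noncomputable def pEl (p : Fin 110 × Fin 1596) : Spor.J1 := hEl p.1 * tEl p.2

theorem enc_vCode : ∃ V : Matrix (Fin 7) (Fin 7) (ZMod 11), enc V = vCode :=
  ⟨fun i j => if i = 0 then ((dig B vCode j : ℕ) : ZMod 11) else 0, by decide +kernel⟩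

theorem keyP_pEl (p : Fin 110 × Fin 1596) : keyP (jEnc (pEl p)) = get2 keyData 0 (p.2 : ℕ) := by
  obtain ⟨k, j⟩ := p
  obtain ⟨V, hV⟩ := enc_vCode
  have h1 := vRows_ok
  simp only [List.all_eq_true, List.mem_range, List.contains_iff_mem] at h1
  have h2 := keys_ok
  simp only [List.all_eq_true, List.mem_range, Nat.beq_eq] at h2
  rw [keyP, pEl, jEnc_mul, ← hV, jEnc, gEnc, jEnc, gEnc, mulP_enc, mulP_enc, ← mul_assoc, ← mulP_enc,
    ← mulP_enc, hV, ← gEnc, ← gEnc, ← jEnc, ← jEnc, jEnc_hEl, jEnc_tEl]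
  exact h2 j j.2 _ (h1 k k.2)

theorem key_injective {i j : Fin 1596} (h : get2 keyData 0 (i : ℕ) = get2 keyData 0 (j : ℕ)) :
    i = j := by
  have ho := ord_ok
  simp only [Bool.and_eq_true, Nat.beq_eq, List.all_eq_true, List.mem_range, Nat.blt_eq] at ho
  have hl := ord_lt
  simp only [List.all_eq_true, Nat.blt_eq] at hl
  have hlt : ∀ m, m < 1596 → ordData.getD m 0 < 1596 := fun m hm => by
    rw [List.getD_eq_getElem _ _ (by rw [ho.1]; exact hm)]
    exact hl _ (List.getElem_mem _)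
  let f : Fin 1596 → Fin 1596 := fun m => ⟨ordData.getD m 0, hlt m m.2⟩
  let c : Fin 1596 → ℕ := fun m => get2 keyData 0 (f m : ℕ)
  have hmono : StrictMono c := Fin.strictMono_iff_lt_succ.2 fun m => by
    simpa [c, f] using ho.2 m m.2
  have hbij : Function.Bijective f := Finite.injective_iff_bijective.1 fun a b e =>
    hmono.injective (by simp only [c, e])
  obtain ⟨a, rfl⟩ := hbij.2 i
  obtain ⟨b, rfl⟩ := hbij.2 j
  exact congrArg f (hmono.injective h)

theorem pEl_injective : Function.Injective pEl := by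
  rintro ⟨k, j⟩ ⟨k', j'⟩ h
  have hj : j = j' := key_injective
    ((keyP_pEl (k, j)).symm.trans ((congrArg (fun g => keyP (jEnc g)) h).trans (keyP_pEl (k', j'))))
  subst hj
  simpa using hEl_injective (mul_right_cancel h)

theorem pEl_mul_X (p : Fin 110 × Fin 1596) :
    ∃ q, pEl q = pEl p * ⟨Spor.jankoX, jankoX_mem⟩ := by
  have h := stepX_ok
  simp only [List.all_eq_true, List.mem_range, Bool.and_eq_true, Nat.blt_eq, Nat.beq_eq] at h
  obtain ⟨h1, h2, h3⟩ := h p.2 p.2.2
  obtain ⟨m, hm⟩ := hEl_mul p.1 ⟨_, h1⟩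
  refine ⟨(m, ⟨_, h2⟩), ?_⟩
  have e : tEl p.2 * (⟨Spor.jankoX, jankoX_mem⟩ : Spor.J1) = hEl ⟨_, h1⟩ * tEl ⟨_, h2⟩ := by
    apply jEnc_injective
    rw [jEnc_mul, jEnc_mul, jEnc_tEl, jEnc_hEl, jEnc_tEl]
    exact (congrArg (mulP (tget p.2)) gEnc_X).trans h3
  rw [pEl, pEl, mul_assoc, e, ← mul_assoc, hm]

theorem pEl_mul_Y (p : Fin 110 × Fin 1596) :
    ∃ q, pEl q = pEl p * ⟨Spor.jankoY, jankoY_mem⟩ := by
  have h := stepY_ok
  simp only [List.all_eq_true, List.mem_range, Bool.and_eq_true, Nat.blt_eq, Nat.beq_eq] at h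
  obtain ⟨h1, h2, h3⟩ := h p.2 p.2.2
  obtain ⟨m, hm⟩ := hEl_mul p.1 ⟨_, h1⟩
  refine ⟨(m, ⟨_, h2⟩), ?_⟩
  have e : tEl p.2 * (⟨Spor.jankoY, jankoY_mem⟩ : Spor.J1) = hEl ⟨_, h1⟩ * tEl ⟨_, h2⟩ := by
    apply jEnc_injective
    rw [jEnc_mul, jEnc_mul, jEnc_tEl, jEnc_hEl, jEnc_tEl]
    exact (congrArg (mulP (tget p.2)) gEnc_Y).trans h3
  rw [pEl, pEl, mul_assoc, e, ← mul_assoc, hm]

theorem pEl_surjective : Function.Surjective pEl := by
  have hpow : ∀ x : Spor.J1, (∀ p, ∃ q, pEl q = pEl p * x) → ∀ p, ∃ q, pEl q = pEl p * x⁻¹ := by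
    intro x hx p
    have hn : ∀ n : ℕ, ∃ q, pEl q = pEl p * x ^ n := fun n => by
      induction n with
      | zero => exact ⟨p, by simp⟩
      | succ n ih =>
        obtain ⟨q, hq⟩ := ih
        obtain ⟨r, hr⟩ := hx q
        exact ⟨r, by rw [hr, hq, mul_assoc, pow_succ]⟩
    obtain ⟨q, hq⟩ := hn (orderOf x - 1)
    refine ⟨q, hq.trans (congrArg (pEl p * ·) (eq_inv_of_mul_eq_one_left ?_))⟩
    rw [← pow_succ, Nat.sub_add_cancel (orderOf_pos x), pow_orderOf_eq_one]
  rintro ⟨g, hg⟩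
  unfold Spor.J1 at hg
  induction hg using Subgroup.closure_induction_right with
  | one => exact ⟨(0, 0), by rw [pEl, hEl_zero, tEl_zero, mul_one]; rfl⟩
  | mul_right x hx y hy ih =>
    obtain ⟨p, hp⟩ := ih
    rcases hy with rfl | hy
    · obtain ⟨q, hq⟩ := pEl_mul_X p; exact ⟨q, by rw [hq, hp]; rfl⟩
    · rw [Set.mem_singleton_iff] at hy; subst hy
      obtain ⟨q, hq⟩ := pEl_mul_Y p; exact ⟨q, by rw [hq, hp]; rfl⟩
  | mul_inv_cancel x hx y hy ih =>
    obtain ⟨p, hp⟩ := ih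
    rcases hy with rfl | hy
    · obtain ⟨q, hq⟩ := hpow _ pEl_mul_X p; exact ⟨q, by rw [hq, hp]; rfl⟩
    · rw [Set.mem_singleton_iff] at hy; subst hy
      obtain ⟨q, hq⟩ := hpow _ pEl_mul_Y p; exact ⟨q, by rw [hq, hp]; rfl⟩

/-- coordinates for the group -/
noncomputable def coord : Fin 110 × Fin 1596 ≃ Spor.J1 :=
  Equiv.ofBijective pEl ⟨pEl_injective, pEl_surjective⟩

theorem natCard_J1 : Nat.card Spor.J1 = 175560 := by
  rw [← Nat.card_congr coord]; simp

theorem countP_eq_card_filter {n : ℕ} (f : ℕ → ℕ) (y : ℕ) :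
    ((List.range n).map f).countP (fun z => Nat.beq z y) =
      (Finset.univ.filter fun k : Fin n => f k = y).card := by
  rw [Finset.card_filter, Fin.sum_univ_eq_sum_range (fun k => if f k = y then 1 else 0)]
  induction n with
  | zero => simp
  | succ n ih =>
    rw [List.range_succ, List.map_append, List.countP_append, ih, Finset.sum_range_succ]
    simp [List.countP_singleton, Nat.beq_eq]

theorem sum_map_range_fin (f : ℕ → ℕ) (n : ℕ) :
    ((List.range n).map f).sum = ∑ j : Fin n, f j := by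
  rw [Fin.sum_univ_eq_sum_range f]
  rfl

theorem natCard_centralizer (g : Spor.J1) :
    Nat.card (Subgroup.centralizer ({g} : Set Spor.J1)) = centCount (jEnc g) := by
  have e : Nat.card (Subgroup.centralizer ({g} : Set Spor.J1)) =
      Nat.card {p : Fin 110 × Fin 1596 // g * pEl p = pEl p * g} := by
    refine (Nat.card_congr (coord.subtypeEquiv fun p => ?_)).symm
    rw [Subgroup.mem_centralizer_singleton_iff]
    exact ⟨fun h => h.symm, fun h => h.symm⟩
  have hiff : ∀ p : Fin 110 × Fin 1596, g * pEl p = pEl p * g ↔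
      mulP (transP (hget p.1)) (mulP (jEnc g) (hget p.1)) =
        mulP (mulP (tget p.2) (jEnc g)) (transP (tget p.2)) := by
    intro p
    rw [← jEnc_hEl p.1, ← jEnc_tEl p.2, ← jEnc_inv, ← jEnc_inv, ← jEnc_mul, ← jEnc_mul,
      ← jEnc_mul, ← jEnc_mul, jEnc_injective.eq_iff, pEl, inv_mul_eq_iff_eq_mul, ← mul_assoc,
      ← mul_assoc, eq_mul_inv_iff_mul_eq]
    simp only [mul_assoc]
  rw [e, Nat.card_congr (Equiv.subtypeEquivRight hiff), Nat.card_eq_fintype_card,
    Fintype.card_subtype, Finset.card_filter, ← Finset.univ_product_univ, Finset.sum_product_right,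
    centCount, sum_map_range_fin]
  refine Finset.sum_congr rfl fun j _ => ?_
  rw [cosetCount, hConj,
    countP_eq_card_filter (fun k => mulP (transP (hget k)) (mulP (jEnc g) (hget k)))
      (mulP (mulP (tget j) (jEnc g)) (transP (tget j))), Finset.card_filter]

end CfsgLib.J1Group
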