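import Cfsg.Agent.Lib.J1Group.Classes
import Cfsg.Agent.Lib.J1Group.InvolTable

/-!
Every automorphism of Janko's matrix group is inner: an element of order `7` and an involution `b`
with `(X b X³ b)² = 1` form a generating pair unique up to conjugation.
-/

set_option autoImplicit false
set_option maxRecDepth 100000

namespace CfsgLib.J1Group

open Cfsg

/-- the first generator in the group -/
def elX : Spor.J1 := ⟨Spor.jankoX, jankoX_mem⟩

/-- the second generator in the group -/
def elY : Spor.J1 := ⟨Spor.jankoY, jankoY_mem⟩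

theorem jEnc_elX : jEnc elX = codeX := gEnc_X

theorem jEnc_elY : jEnc elY = codeY := gEnc_Y

/-- table lookup for involutions -/
def invP (i : ℕ) : ℕ := get2 involData 0 i

/-- conjugation -/
def conjP (g a : ℕ) : ℕ := mulP (mulP g a) (transP g)

theorem invP_zero : Nat.beq (invP 0) (repP 1) = true := by decide +kernel

theorem invol_closed : ((List.range 1463).all fun i =>
    let s := get2 involStep (0, 0) i
    Nat.blt s.1 1463 && (Nat.blt s.2 1463 && (Nat.beq (conjP codeX (invP i)) (invP s.1) &&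
      Nat.beq (conjP codeY (invP i)) (invP s.2)))) = true := by
  decide +kernel

/-- the packed distinguished involution -/
def pickP : ℕ := mulP (hget involPick.1) (tget involPick.2)

/-- the packed word `X b X³ b` -/
def testP (b : ℕ) : ℕ :=
  mulP (mulP (mulP codeX b) (mulP (mulP codeX codeX) codeX)) b

/-- powers of the first generator -/
def xPow (m : ℕ) : ℕ := powP codeX m

theorem invol_unique : ((List.range 1463).all fun i =>
    !Nat.beq (mulP (testP (invP i)) (testP (invP i))) idP ||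
      (List.range 7).any fun m => Nat.beq (invP i) (conjP (xPow m) pickP)) = true := by
  decide +kernel

theorem involPick_lt : involPick.1 < 110 ∧ involPick.2 < 1596 := by decide +kernel

/-- the distinguished involution -/
noncomputable def elB : Spor.J1 :=
  pEl (⟨_, involPick_lt.1⟩, ⟨_, involPick_lt.2⟩)

theorem jEnc_elB : jEnc elB = pickP := by
  rw [elB, pEl, jEnc_mul, jEnc_hEl, jEnc_tEl]; rfl

/-- value of a word -/
def wordP : List Bool → ℕ
  | [] => idP
  | c :: r => mulP (if c then codeX else pickP) (wordP r)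

theorem pick_facts : (Nat.beq (mulP pickP pickP) idP && !Nat.beq pickP idP &&
    Nat.beq (mulP (testP pickP) (testP pickP)) idP && Nat.beq (wordP involWord) codeY &&
    Nat.beq (powP codeX 7) idP && !Nat.beq codeX idP) = true := by
  decide +kernel

theorem exists_invP_conj (c : Spor.J1) :
    ∃ i < 1463, jEnc (c * rep 1 * c⁻¹) = invP i := by
  obtain ⟨g, hg⟩ := c
  have hg' : g ∈ Submonoid.closure ({Spor.jankoX, Spor.jankoY} : Set (GL (Fin 7) (ZMod 11))) := by
    rw [← Subgroup.closure_toSubmonoid_of_finite]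
    exact hg
  suffices H : ∀ hg : g ∈ Spor.J1, ∃ i < 1463,
      jEnc ((⟨g, hg⟩ : Spor.J1) * rep 1 * (⟨g, hg⟩ : Spor.J1)⁻¹) = invP i from H hg
  clear hg
  induction hg' using Submonoid.closure_induction_left with
  | one =>
    intro h1
    refine ⟨0, by norm_num, ?_⟩
    rw [show (⟨1, h1⟩ : Spor.J1) = 1 from rfl, one_mul, inv_one, mul_one, jEnc_rep]
    exact (Nat.eq_of_beq_eq_true invP_zero).symm
  | mul_left x hx y hy ih =>
    intro hxy
    have hy' : y ∈ Spor.J1 := by
      rw [← Subgroup.mem_toSubmonoid, Spor.J1, Subgroup.closure_toSubmonoid_of_finite]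
      exact hy
    obtain ⟨i, hi, e⟩ := ih hy'
    have h := invol_closed
    simp only [List.all_eq_true, List.mem_range, Bool.and_eq_true, Nat.blt_eq, Nat.beq_eq] at h
    obtain ⟨s1, s2, sX, sY⟩ := h i hi
    have hsplit : ∀ hx' : x ∈ Spor.J1, jEnc ((⟨x * y, hxy⟩ : Spor.J1) * rep 1 *
        (⟨x * y, hxy⟩ : Spor.J1)⁻¹) = conjP (gEnc x) (invP i) := by
      intro hx'
      rw [show (⟨x * y, hxy⟩ : Spor.J1) = ⟨x, hx'⟩ * ⟨y, hy'⟩ from rfl, mul_inv_rev,
        show ∀ a b r : Spor.J1, a * b * r * (b⁻¹ * a⁻¹) = a * (b * r * b⁻¹) * a⁻¹ from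
          fun a b r => by group, jEnc_mul, jEnc_mul, jEnc_inv, e]
      rfl
    rcases hx with rfl | hx
    · exact ⟨_, s1, by rw [hsplit jankoX_mem, gEnc_X, sX]⟩
    · rw [Set.mem_singleton_iff] at hx; subst hx
      exact ⟨_, s2, by rw [hsplit jankoY_mem, gEnc_Y, sY]⟩

theorem exists_conj_of_orderOf_seven {g : Spor.J1} (h : orderOf g = 7) :
    ∃ c, c * g * c⁻¹ = elX := by
  have key : ∀ u : Spor.J1, orderOf u = 7 → IsConj (rep 6) u := fun u hu => by
    obtain ⟨i, hi⟩ := exists_isConj_rep u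
    obtain ⟨c, hc⟩ := isConj_iff.1 hi
    have ho : repOrd i = 7 := by
      rw [← orderOf_rep]
      exact (((MulAut.conj c).orderOf_eq (rep i)).symm.trans (congrArg orderOf hc)).trans hu
    have : i = 6 := (show ∀ j : Fin 15, repOrd j = 7 → j = 6 by decide +kernel) i ho
    exact this ▸ hi
  have : Fact (Nat.Prime 7) := ⟨by norm_num⟩
  have h' := pick_facts
  simp only [Bool.and_eq_true, Bool.not_eq_true', ← Bool.not_eq_true, Nat.beq_eq] at h'
  have hX : orderOf elX = 7 := orderOf_eq_prime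
    (jEnc_injective (by rw [jEnc_pow, jEnc_elX, jEnc_one]; exact h'.1.2))
    (fun e => h'.2 (by rw [← jEnc_elX, e, jEnc_one]))
  exact isConj_iff.1 ((key g h).symm.trans (key elX hX))

theorem closure_elX_elB : ∀ g : Spor.J1, g ∈ Subgroup.closure ({elX, elB} : Set Spor.J1) := by
  set K := Subgroup.closure ({elX, elB} : Set Spor.J1)
  have hword : ∀ w : List Bool, ∃ u ∈ K, jEnc u = wordP w := by
    intro w
    induction w with
    | nil => exact ⟨1, one_mem _, jEnc_one⟩
    | cons c r ih =>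
      obtain ⟨u, hu, e⟩ := ih
      cases c
      · refine ⟨elB * u, mul_mem (Subgroup.subset_closure (by simp)) hu, ?_⟩
        rw [jEnc_mul, jEnc_elB, e, wordP, if_neg Bool.false_ne_true]
      · refine ⟨elX * u, mul_mem (Subgroup.subset_closure (by simp)) hu, ?_⟩
        rw [jEnc_mul, jEnc_elX, e, wordP, if_pos rfl]
  obtain ⟨u, hu, e⟩ := hword involWord
  have h' := pick_facts
  simp only [Bool.and_eq_true, Nat.beq_eq] at h'
  rw [h'.1.1.2, ← jEnc_elY] at e
  have hY : elY ∈ K := jEnc_injective e ▸ hu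
  have hle : Spor.J1 ≤ K.map Spor.J1.subtype := by
    refine (Subgroup.closure_le _).2 ?_
    rintro x (rfl | hx)
    · exact ⟨elX, Subgroup.subset_closure (by simp), rfl⟩
    · rw [Set.mem_singleton_iff] at hx; subst hx; exact ⟨elY, hY, rfl⟩
  intro g
  obtain ⟨m, hm, he⟩ := hle g.2
  exact (Subtype.ext he : m = g) ▸ hm

theorem mulAut_mem_inn (φ : MulAut Spor.J1) : φ ∈ (MulAut.conj : Spor.J1 →* _).range := by
  have h' := pick_facts
  simp only [Bool.and_eq_true, Bool.not_eq_true', ← Bool.not_eq_true, Nat.beq_eq] at h'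
  obtain ⟨⟨⟨⟨⟨hb2, hb1⟩, hbt⟩, -⟩, hx7⟩, hx1⟩ := h'
  have : Fact (Nat.Prime 7) := ⟨by norm_num⟩
  have hX : orderOf elX = 7 := orderOf_eq_prime
    (jEnc_injective (by rw [jEnc_pow, jEnc_elX, jEnc_one]; exact hx7))
    (fun e => hx1 (by rw [← jEnc_elX, e, jEnc_one]))
  obtain ⟨c, hc⟩ := exists_conj_of_orderOf_seven ((φ.orderOf_eq elX).trans hX)
  let ψ : MulAut Spor.J1 := MulAut.conj c * φ
  have hψX : ψ elX = elX := hc
  -- the image of the involution is an involution
  have hBo : orderOf (ψ elB) = 2 := by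
    rw [ψ.orderOf_eq]
    exact orderOf_eq_prime (jEnc_injective (by
      rw [pow_two, jEnc_mul, jEnc_elB, jEnc_one]; exact hb2))
      (fun e => hb1 (by rw [← jEnc_elB, e, jEnc_one]))
  obtain ⟨i, hi⟩ := exists_isConj_rep (ψ elB)
  obtain ⟨d, hd⟩ := isConj_iff.1 hi
  have hi1 : i = 1 := by
    have ho : repOrd i = 2 := by
      rw [← orderOf_rep]
      exact (((MulAut.conj d).orderOf_eq (rep i)).symm.trans (congrArg orderOf hd)).trans hBo
    exact (show ∀ j : Fin 15, repOrd j = 2 → j = 1 by decide +kernel) i ho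
  subst hi1
  obtain ⟨n, hn, hne⟩ := exists_invP_conj d
  rw [hd] at hne
  have hu := invol_unique
  simp only [List.all_eq_true, List.any_eq_true, List.mem_range, Bool.or_eq_true,
    Bool.not_eq_true', ← Bool.not_eq_true, Nat.beq_eq] at hu
  have hrel : (elX * elB * (elX * elX * elX) * elB) * (elX * elB * (elX * elX * elX) * elB) = 1 :=
    jEnc_injective (by simp only [jEnc_mul, jEnc_elX, jEnc_elB, jEnc_one]; exact hbt)
  have hrel' := congrArg (fun g => jEnc (ψ g)) hrel
  simp only [map_mul, map_one, hψX, jEnc_mul, jEnc_elX, jEnc_one, hne] at hrel'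
  obtain ⟨m, hm, e⟩ := (hu n hn).resolve_left (fun h => h hrel')
  have hψB : ψ elB = elX ^ m * elB * (elX ^ m)⁻¹ := jEnc_injective (by
    rw [hne, e, jEnc_mul, jEnc_mul, jEnc_inv, jEnc_pow, jEnc_elX, jEnc_elB]; rfl)
  refine ⟨c⁻¹ * elX ^ m, ?_⟩
  refine MulEquiv.ext fun g => ?_
  have hg : ψ g = MulAut.conj (elX ^ m) g := by
    refine MonoidHom.eqOn_closure (f := ψ.toMonoidHom) (g := (MulAut.conj (elX ^ m)).toMonoidHom)
      ?_ (closure_elX_elB g)
    intro x hx
    rcases hx with rfl | hx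
    · show ψ elX = elX ^ m * elX * (elX ^ m)⁻¹
      rw [hψX, ← pow_succ, pow_succ', mul_inv_cancel_right]
    · rw [Set.mem_singleton_iff] at hx; subst hx; exact hψB
  have hg' : c * φ g * c⁻¹ = elX ^ m * g * (elX ^ m)⁻¹ := hg
  show c⁻¹ * elX ^ m * g * (c⁻¹ * elX ^ m)⁻¹ = φ g
  rw [mul_inv_rev, inv_inv, show c⁻¹ * elX ^ m * g * ((elX ^ m)⁻¹ * c) =
    c⁻¹ * (elX ^ m * g * (elX ^ m)⁻¹) * c by group, ← hg']
  group

end CfsgLib.J1Group
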