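import Cfsg.Prelude.Def_Spor_J1

/-!
`7 × 7` matrices over the integers modulo `11` packed in one natural number: ten bits for an
entry, seventy bits for a row.
-/

set_option autoImplicit false

namespace CfsgLib.J1Group

open Cfsg

/-- the base of an entry -/
def B : ℕ := 1024

/-- the base of a row -/
def R : ℕ := 1180591620717411303424

/-- seven digits in base `b` -/
def pack7 (b x₀ x₁ x₂ x₃ x₄ x₅ x₆ : ℕ) : ℕ :=
  x₀ + b * (x₁ + b * (x₂ + b * (x₃ + b * (x₄ + b * (x₅ + b * x₆)))))

/-- the `j`-th digit in base `b` -/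
def dig (b a : ℕ) (j : ℕ) : ℕ := a / b ^ j % b

theorem dig_pack7 {b : ℕ} (x : Fin 7 → ℕ) (hx : ∀ j, x j < b) (j : Fin 7) :
    dig b (pack7 b (x 0) (x 1) (x 2) (x 3) (x 4) (x 5) (x 6)) j = x j := by
  have hb : 0 < b := lt_of_le_of_lt (Nat.zero_le _) (hx 0)
  have hdiv : ∀ a y : ℕ, a < b → (a + b * y) / b = y := by
    intro a y ha
    rw [Nat.add_mul_div_left _ _ hb, Nat.div_eq_of_lt ha, zero_add]
  have hmod : ∀ a y : ℕ, a < b → (a + b * y) % b = a := by
    intro a y ha
    rw [Nat.add_mul_mod_self_left, Nat.mod_eq_of_lt ha]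
  fin_cases j <;>
    simp [dig, pack7, pow_succ, ← Nat.div_div_eq_div_mul, hdiv, hmod, hx, Nat.mod_eq_of_lt]

/-- reduce the seven digits of a row -/
def redRow (s : ℕ) : ℕ :=
  pack7 B (dig B s 0 % 11) (dig B s 1 % 11) (dig B s 2 % 11) (dig B s 3 % 11) (dig B s 4 % 11)
    (dig B s 5 % 11) (dig B s 6 % 11)

/-- the unreduced combination of the rows of `b` with the entries of the row `r` -/
def combRow (r b : ℕ) : ℕ :=
  dig B r 0 * dig R b 0 + dig B r 1 * dig R b 1 + dig B r 2 * dig R b 2 + dig B r 3 * dig R b 3 +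
    dig B r 4 * dig R b 4 + dig B r 5 * dig R b 5 + dig B r 6 * dig R b 6

/-- the product of packed matrices -/
def mulP (a b : ℕ) : ℕ :=
  pack7 R (redRow (combRow (dig R a 0) b)) (redRow (combRow (dig R a 1) b))
    (redRow (combRow (dig R a 2) b)) (redRow (combRow (dig R a 3) b))
    (redRow (combRow (dig R a 4) b)) (redRow (combRow (dig R a 5) b))
    (redRow (combRow (dig R a 6) b))

/-- pack a row given by a function -/
def packRow (x : Fin 7 → ℕ) : ℕ := pack7 B (x 0) (x 1) (x 2) (x 3) (x 4) (x 5) (x 6)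

/-- pack a matrix -/
def enc (M : Matrix (Fin 7) (Fin 7) (ZMod 11)) : ℕ :=
  pack7 R (packRow fun j => (M 0 j).val) (packRow fun j => (M 1 j).val)
    (packRow fun j => (M 2 j).val) (packRow fun j => (M 3 j).val) (packRow fun j => (M 4 j).val)
    (packRow fun j => (M 5 j).val) (packRow fun j => (M 6 j).val)

theorem packRow_lt {x : Fin 7 → ℕ} (hx : ∀ j, x j < B) : packRow x < R := by
  have h0 := hx 0; have h1 := hx 1; have h2 := hx 2; have h3 := hx 3
  have h4 := hx 4; have h5 := hx 5; have h6 := hx 6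
  simp only [packRow, pack7, B, R] at *
  omega

theorem val_lt_B (x : ZMod 11) : x.val < B := lt_trans (ZMod.val_lt x) (by norm_num [B])

theorem dig_enc (M : Matrix (Fin 7) (Fin 7) (ZMod 11)) (i : Fin 7) :
    dig R (enc M) i = packRow fun j => (M i j).val :=
  dig_pack7 (fun i => packRow fun j => (M i j).val) (fun _ => packRow_lt fun _ => val_lt_B _) i

theorem dig_packRow {x : Fin 7 → ℕ} (hx : ∀ j, x j < B) (j : Fin 7) :
    dig B (packRow x) j = x j :=
  dig_pack7 x hx j

theorem enc_injective : Function.Injective enc := by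
  intro M N h
  ext i j
  apply ZMod.val_injective
  have := congrArg (fun a => dig B (dig R a i) j) h
  simpa [dig_enc, dig_packRow, val_lt_B] using this

theorem combRow_packRow (c : Fin 7 → ℕ) (hc : ∀ k, c k < 11)
    (M : Matrix (Fin 7) (Fin 7) (ZMod 11)) :
    combRow (packRow c) (enc M) = packRow fun j => ∑ k, c k * (M k j).val := by
  have hcB : ∀ k, c k < B := fun k => lt_trans (hc k) (by norm_num [B])
  have h1 : ∀ k : Fin 7, dig B (packRow c) k = c k := dig_packRow hcB
  have h2 := dig_enc M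
  simp only [Fin.forall_fin_succ, Fin.forall_fin_zero] at h1 h2
  obtain ⟨a0, a1, a2, a3, a4, a5, a6, -⟩ := h1
  obtain ⟨b0, b1, b2, b3, b4, b5, b6, -⟩ := h2
  simp only [Fin.val_zero, Fin.val_succ, zero_add, Nat.reduceAdd] at a0 a1 a2 a3 a4 a5 a6 b0 b1 b2 b3 b4 b5 b6
  simp only [combRow, a0, a1, a2, a3, a4, a5, a6, b0, b1, b2, b3, b4, b5, b6]
  simp only [packRow, pack7, Fin.sum_univ_succ, Finset.univ_eq_empty, Finset.sum_empty]
  ring

theorem redRow_packRow {x : Fin 7 → ℕ} (hx : ∀ j, x j < B) :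
    redRow (packRow x) = packRow fun j => x j % 11 := by
  have h1 : ∀ k : Fin 7, dig B (packRow x) k = x k := dig_packRow hx
  simp only [Fin.forall_fin_succ, Fin.forall_fin_zero] at h1
  obtain ⟨a0, a1, a2, a3, a4, a5, a6, -⟩ := h1
  simp only [Fin.val_zero, Fin.val_succ, zero_add, Nat.reduceAdd] at a0 a1 a2 a3 a4 a5 a6
  simp only [redRow, a0, a1, a2, a3, a4, a5, a6]
  rfl

theorem val_mul_apply (M N : Matrix (Fin 7) (Fin 7) (ZMod 11)) (i j : Fin 7) :
    ((M * N) i j).val = (∑ k, (M i k).val * (N k j).val) % 11 := by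
  have h : (M * N) i j = ((∑ k, (M i k).val * (N k j).val : ℕ) : ZMod 11) := by
    rw [Matrix.mul_apply, Nat.cast_sum]
    simp [ZMod.natCast_val, ZMod.cast_id]
  rw [h, ZMod.val_natCast]

theorem redRow_combRow_enc (M N : Matrix (Fin 7) (Fin 7) (ZMod 11)) (i : Fin 7) :
    redRow (combRow (dig R (enc M) i) (enc N)) = packRow fun j => ((M * N) i j).val := by
  rw [dig_enc, combRow_packRow _ (fun k => ZMod.val_lt _), redRow_packRow]
  · exact congrArg packRow (funext fun j => (val_mul_apply M N i j).symm)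
  · intro j
    calc (∑ k, (M i k).val * (N k j).val) ≤ ∑ _k : Fin 7, 100 :=
          Finset.sum_le_sum fun k _ => Nat.mul_le_mul (Nat.le_of_lt_succ (ZMod.val_lt (M i k)))
            (Nat.le_of_lt_succ (ZMod.val_lt (N k j)))
      _ < B := by simp [B]

theorem mulP_enc (M N : Matrix (Fin 7) (Fin 7) (ZMod 11)) :
    mulP (enc M) (enc N) = enc (M * N) := by
  have h := redRow_combRow_enc M N
  simp only [Fin.forall_fin_succ, Fin.forall_fin_zero] at h
  obtain ⟨a0, a1, a2, a3, a4, a5, a6, -⟩ := h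
  simp only [Fin.val_zero, Fin.val_succ, zero_add, Nat.reduceAdd] at a0 a1 a2 a3 a4 a5 a6
  simp only [mulP, a0, a1, a2, a3, a4, a5, a6]
  rfl

/-- entry of a packed matrix -/
def getP (a : ℕ) (i j : Fin 7) : ℕ := dig B (dig R a i) j

theorem getP_enc (M : Matrix (Fin 7) (Fin 7) (ZMod 11)) (i j : Fin 7) :
    getP (enc M) i j = (M i j).val := by
  rw [getP, dig_enc, dig_packRow fun _ => val_lt_B _]

/-- one row of a transposed packed matrix -/
def colP (a : ℕ) (j : ℕ) : ℕ :=
  pack7 B (dig B (dig R a 0) j) (dig B (dig R a 1) j) (dig B (dig R a 2) j) (dig B (dig R a 3) j)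
    (dig B (dig R a 4) j) (dig B (dig R a 5) j) (dig B (dig R a 6) j)

/-- the transpose of a packed matrix -/
def transP (a : ℕ) : ℕ :=
  pack7 R (colP a 0) (colP a 1) (colP a 2) (colP a 3) (colP a 4) (colP a 5) (colP a 6)

theorem transP_enc (M : Matrix (Fin 7) (Fin 7) (ZMod 11)) :
    transP (enc M) = enc M.transpose := by
  have h : ∀ i j : Fin 7, dig B (dig R (enc M) i) j = (M i j).val := getP_enc M
  simp only [Fin.forall_fin_succ, Fin.forall_fin_zero] at h
  simp only [Fin.val_zero, Fin.val_succ, zero_add, Nat.reduceAdd] at h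
  simp only [transP, colP, h]
  rfl

/-- the trace of a packed matrix -/
def traceP (a : ℕ) : ℕ :=
  (getP a 0 0 + getP a 1 1 + getP a 2 2 + getP a 3 3 + getP a 4 4 + getP a 5 5 + getP a 6 6) % 11

theorem traceP_enc (M : Matrix (Fin 7) (Fin 7) (ZMod 11)) : traceP (enc M) = M.trace.val := by
  have h : M.trace = (((M 0 0).val + (M 1 1).val + (M 2 2).val + (M 3 3).val + (M 4 4).val +
      (M 5 5).val + (M 6 6).val : ℕ) : ZMod 11) := by
    simp only [Matrix.trace, Fin.sum_univ_succ, Finset.univ_eq_empty, Finset.sum_empty,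
      Matrix.diag_apply, Nat.cast_add, ZMod.natCast_val, ZMod.cast_id', id]
    simp only [add_zero, add_assoc]
    rfl
  rw [h, ZMod.val_natCast]
  simp only [traceP, getP_enc]

end CfsgLib.J1Group
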