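import Mathlib

/-!
Solvable groups of unbounded order whose element orders are the proper divisors of `43890`.
-/

set_option autoImplicit false

namespace CfsgLib.J1Group

/-- the five primes other than `11` -/
def otherPrime (i : Fin 5) : ℕ := [2, 3, 5, 7, 19].getD i 1

/-- sum-zero functions on a cyclic group, `k` copies -/
def augMod (q k : ℕ) [NeZero q] : AddSubgroup (Fin k → ZMod q → ZMod 11) where
  carrier := {f | ∀ i, ∑ a, f i a = 0}
  zero_mem' := fun i => by simp
  add_mem' := fun {f g} hf hg i => by simp [Finset.sum_add_distrib, hf i, hg i]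
  neg_mem' := fun {f} hf i => by simp [hf i]

/-- translation of the sum-zero functions -/
def augShift (q k : ℕ) [NeZero q] (a : ZMod q) : augMod q k ≃+ augMod q k where
  toFun f := ⟨fun i b => f.1 i (b + a), fun i => by
    have h : ∑ b, f.1 i (b + a) = ∑ b, f.1 i b := Equiv.sum_comp (Equiv.addRight a) (f.1 i)
    exact h.trans (f.2 i)⟩
  invFun f := ⟨fun i b => f.1 i (b - a), fun i => by
    have h : ∑ b, f.1 i (b - a) = ∑ b, f.1 i b := Equiv.sum_comp (Equiv.subRight a) (f.1 i)
    exact h.trans (f.2 i)⟩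
  left_inv f := by ext i b; simp
  right_inv f := by ext i b; simp
  map_add' f g := by ext i b; simp

/-- translation as an action by automorphisms -/
def augAct (q k : ℕ) [NeZero q] : Multiplicative (ZMod q) →* MulAut (Multiplicative (augMod q k)) where
  toFun a := AddEquiv.toMultiplicative (augShift q k a.toAdd)
  map_one' := by
    apply MulEquiv.ext
    intro f
    apply Multiplicative.toAdd.injective
    apply Subtype.ext
    funext i b
    show f.toAdd.1 i (b + 0) = f.toAdd.1 i b
    rw [add_zero]
  map_mul' a c := by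
    apply MulEquiv.ext
    intro f
    apply Multiplicative.toAdd.injective
    apply Subtype.ext
    funext i b
    show f.toAdd.1 i (b + (a.toAdd + c.toAdd)) = f.toAdd.1 i (b + a.toAdd + c.toAdd)
    rw [add_assoc]

/-- sum-zero functions extended by the cyclic group -/
abbrev AugGroup (q k : ℕ) [NeZero q] : Type :=
  Multiplicative (augMod q k) ⋊[augAct q k] Multiplicative (ZMod q)

theorem augGroup_pow_left {q k : ℕ} [NeZero q] (x : AugGroup q k) (n : ℕ) (i : Fin k) (b : ZMod q) :
    ((x ^ n).left.toAdd : Fin k → ZMod q → ZMod 11) i b =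
      ∑ m ∈ Finset.range n, (x.left.toAdd : Fin k → ZMod q → ZMod 11) i (b + (m : ZMod q) * x.right.toAdd) := by
  induction n generalizing b with
  | zero => simp
  | succ n ih =>
    rw [pow_succ', Finset.sum_range_succ']
    show (x.left.toAdd : Fin k → ZMod q → ZMod 11) i b +
      ((x ^ n).left.toAdd : Fin k → ZMod q → ZMod 11) i (b + x.right.toAdd) = _
    rw [ih, add_comm]
    congr 1
    · refine Finset.sum_congr rfl fun m _ => ?_
      rw [Nat.cast_succ, add_mul, one_mul]
      abel_nf
    · simp

theorem augGroup_pow_or {q k : ℕ} [Fact q.Prime] (x : AugGroup q k) : x ^ q = 1 ∨ x ^ 11 = 1 := by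
  by_cases h : x.right.toAdd = 0
  · refine Or.inr (SemidirectProduct.ext ?_ ?_)
    · apply Multiplicative.toAdd.injective
      apply Subtype.ext
      funext i b
      rw [augGroup_pow_left, h]
      simp [Finset.sum_const, nsmul_eq_mul, show (11 : ZMod 11) = 0 from rfl]
    · have h1 : x.right = 1 := h
      have : (x ^ 11).right = x.right ^ 11 := map_pow SemidirectProduct.rightHom x 11
      rw [this, h1, one_pow]; rfl
  · refine Or.inl (SemidirectProduct.ext ?_ ?_)
    · apply Multiplicative.toAdd.injective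
      apply Subtype.ext
      funext i b
      rw [augGroup_pow_left]
      show _ = (0 : ZMod 11)
      rw [← x.left.toAdd.2 i]
      refine Finset.sum_bij' (fun m _ => b + (m : ZMod q) * x.right.toAdd)
        (fun c _ => ((c - b) / x.right.toAdd).val) (fun _ _ => Finset.mem_univ _)
        (fun c _ => Finset.mem_range.2 (ZMod.val_lt _)) ?_ ?_ (fun _ _ => rfl)
      · intro m hm
        rw [add_sub_cancel_left, mul_div_assoc, div_self h, mul_one,
          ZMod.val_natCast, Nat.mod_eq_of_lt (Finset.mem_range.1 hm)]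
      · intro c _
        rw [ZMod.natCast_rightInverse, div_mul_cancel₀ _ h, add_sub_cancel]
    · have : (x ^ q).right = x.right ^ q := map_pow SemidirectProduct.rightHom x q
      rw [this]
      apply Multiplicative.toAdd.injective
      rw [toAdd_pow]
      show (q • x.right.toAdd : ZMod q) = 0
      simp [nsmul_eq_mul]

theorem augGroup_orderOf_q {q k : ℕ} [Fact q.Prime] :
    ∃ x : AugGroup q k, orderOf x = q := by
  refine ⟨SemidirectProduct.inr (Multiplicative.ofAdd 1), ?_⟩
  rw [orderOf_injective _ SemidirectProduct.inr_injective, orderOf_ofAdd_eq_addOrderOf,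
    ZMod.addOrderOf_one]

theorem augGroup_kernel {q k : ℕ} [Fact q.Prime] :
    (∀ v : Fin k → ZMod 11, ∃ f : augMod q k, ∀ i, f.1 i 0 = v i) ∧
    (0 < k → ∃ x : AugGroup q k, orderOf x = 11) := by
  have h01 : (0 : ZMod q) ≠ 1 := zero_ne_one
  have hmk : ∀ v : Fin k → ZMod 11, ∃ f : augMod q k, ∀ i, f.1 i 0 = v i := by
    intro v
    refine ⟨⟨fun i b => if b = 0 then v i else if b = 1 then -v i else 0, fun i => ?_⟩, fun i => by
      simp⟩
    rw [Finset.sum_eq_add (0 : ZMod q) 1 h01 (fun b _ hb => by simp [hb.1, hb.2]) (by simp) (by simp)]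
    simp [h01.symm]
  refine ⟨hmk, fun hk => ?_⟩
  obtain ⟨f, hf⟩ := hmk fun _ => 1
  refine ⟨SemidirectProduct.inl (Multiplicative.ofAdd f), ?_⟩
  have : Fact (Nat.Prime 11) := ⟨by norm_num⟩
  rw [orderOf_injective _ SemidirectProduct.inl_injective, orderOf_ofAdd_eq_addOrderOf]
  refine addOrderOf_eq_prime ?_ ?_
  · ext i b
    simp [show (11 : ZMod 11) = 0 from rfl]
  · intro h0
    have := hf ⟨0, hk⟩
    rw [h0] at this
    exact zero_ne_one this

theorem natCard_augGroup_ge {q k : ℕ} [Fact q.Prime] : 11 ^ k ≤ Nat.card (AugGroup q k) := by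
  classical
  obtain ⟨hmk, -⟩ := augGroup_kernel (q := q) (k := k)
  choose f hf using hmk
  have hinj : Function.Injective
      fun v => (SemidirectProduct.inl (Multiplicative.ofAdd (f v)) : AugGroup q k) := by
    intro v w h
    have h' : f v = f w := Multiplicative.ofAdd.injective (SemidirectProduct.inl_injective h)
    funext i
    rw [← hf v i, ← hf w i, h']
  have : Finite (AugGroup q k) := Finite.of_equiv _ SemidirectProduct.equivProd.symm
  have := Nat.card_le_card_of_injective _ hinj
  simpa [Nat.card_fun] using this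

instance otherPrime_fact (i : Fin 5) : Fact (otherPrime i).Prime :=
  ⟨by fin_cases i <;> norm_num [otherPrime]⟩

theorem otherPrime_mul_dvd : ∀ i : Fin 5, otherPrime i ∣ 3990 ∧ 43890 % 11 = 0 ∧
    43890 = otherPrime i * (43890 / otherPrime i) ∧ 11 ∣ 43890 / otherPrime i ∧
    ∀ j : Fin 5, j ≠ i → otherPrime j ∣ 43890 / otherPrime i := by
  decide +kernel

/-- the divisors of `43890` omitting one of its primes -/
theorem exists_prime_omitted {n : ℕ} (hn : n ∣ 43890) (hne : n ≠ 43890) :
    ∃ p, (p = 2 ∨ p = 3 ∨ p = 5 ∨ p = 7 ∨ p = 11 ∨ p = 19) ∧ n ∣ 43890 / p := by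
  obtain ⟨c, hc⟩ := hn
  have hc1 : c ≠ 1 := by rintro rfl; exact hne (by omega)
  obtain ⟨p, hp, hpc⟩ := Nat.exists_prime_and_dvd hc1
  have hpd : p ∣ 43890 := hc ▸ hpc.trans (dvd_mul_left c n)
  refine ⟨p, ?_, ?_⟩
  · have h := Nat.mem_primeFactors.2 ⟨hp, hpd, by norm_num⟩
    have hpf : (43890 : ℕ).primeFactors = {2, 3, 5, 7, 11, 19} := by
      rw [show (43890 : ℕ) = 2 * 3 * 5 * 7 * 11 * 19 by norm_num]
      repeat rw [Nat.primeFactors_mul (by norm_num) (by norm_num)]
      simp [Nat.Prime.primeFactors (by norm_num : Nat.Prime 2),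
        Nat.Prime.primeFactors (by norm_num : Nat.Prime 3),
        Nat.Prime.primeFactors (by norm_num : Nat.Prime 5),
        Nat.Prime.primeFactors (by norm_num : Nat.Prime 7),
        Nat.Prime.primeFactors (by norm_num : Nat.Prime 11),
        Nat.Prime.primeFactors (by norm_num : Nat.Prime 19)]
    rw [hpf] at h
    simpa using h
  · obtain ⟨e, rfl⟩ := hpc
    exact ⟨e, by rw [hc, show n * (p * e) = n * e * p by ring, Nat.mul_div_cancel _ hp.pos]⟩

theorem exists_solvable_example (N : ℕ) :
    ∃ (H : Type) (_ : Group H) (_ : Fintype H), N < Fintype.card H ∧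
      Set.range (orderOf : H → ℕ) = {n : ℕ | n ∣ 43890 ∧ n ≠ 43890} := by
  classical
  have : ∀ i : Fin 5, Fintype (AugGroup (otherPrime i) (N + 1)) := fun i =>
    Fintype.ofEquiv _ SemidirectProduct.equivProd.symm
  refine ⟨(i : Fin 5) → AugGroup (otherPrime i) (N + 1), inferInstance, inferInstance, ?_, ?_⟩
  · rw [← Nat.card_eq_fintype_card, Nat.card_pi]
    calc N < 11 ^ (N + 1) := lt_trans (Nat.lt_succ_self N) (Nat.lt_pow_self (by norm_num))
      _ ≤ Nat.card (AugGroup (otherPrime 0) (N + 1)) := natCard_augGroup_ge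
      _ ≤ ∏ i, Nat.card (AugGroup (otherPrime i) (N + 1)) :=
        Finset.single_le_prod' (f := fun i => Nat.card (AugGroup (otherPrime i) (N + 1)))
          (fun i _ => Nat.one_le_iff_ne_zero.2 Nat.card_pos.ne') (Finset.mem_univ 0)
  · have hdiv : ∀ i : Fin 5, ∀ y : AugGroup (otherPrime i) (N + 1), ∀ m : ℕ,
        otherPrime i ∣ m → 11 ∣ m → y ^ m = 1 := by
      intro i y m hq h11
      rcases augGroup_pow_or y with h | h
      · exact orderOf_dvd_iff_pow_eq_one.1 ((orderOf_dvd_of_pow_eq_one h).trans hq)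
      · exact orderOf_dvd_iff_pow_eq_one.1 ((orderOf_dvd_of_pow_eq_one h).trans h11)
    ext n
    constructor
    · rintro ⟨x, rfl⟩
      by_cases hall : ∀ i, x i ^ otherPrime i = 1
      · have h : orderOf x ∣ 3990 := orderOf_dvd_of_pow_eq_one (funext fun i =>
          orderOf_dvd_iff_pow_eq_one.1
            ((orderOf_dvd_of_pow_eq_one (hall i)).trans (otherPrime_mul_dvd i).1))
        refine ⟨h.trans (by norm_num), fun e => ?_⟩
        rw [e] at h
        norm_num at h
      · push Not at hall
        obtain ⟨i, hi⟩ := hall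
        have h11 : x i ^ 11 = 1 := (augGroup_pow_or (x i)).resolve_left hi
        obtain ⟨-, -, hm, h11d, hj⟩ := otherPrime_mul_dvd i
        have h : orderOf x ∣ 43890 / otherPrime i := orderOf_dvd_of_pow_eq_one (funext fun j => by
          by_cases hji : j = i
          · subst hji
            exact orderOf_dvd_iff_pow_eq_one.1 ((orderOf_dvd_of_pow_eq_one h11).trans h11d)
          · exact hdiv j (x j) _ (hj j hji) h11d)
        refine ⟨h.trans ⟨otherPrime i, hm.trans (mul_comm _ _)⟩, fun e => ?_⟩
        rw [e] at h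
        have hle := Nat.le_of_dvd (Nat.div_pos (Nat.le_of_dvd (by norm_num) ⟨_, hm⟩)
          (otherPrime_fact i).out.pos) h
        exact absurd hle (not_le.2 (Nat.div_lt_self (by norm_num) (otherPrime_fact i).out.one_lt))
    · rintro ⟨hn, hne⟩
      obtain ⟨p, hp, hnp⟩ := exists_prime_omitted hn hne
      suffices H : ∃ x : (i : Fin 5) → AugGroup (otherPrime i) (N + 1), 43890 / p ∣ orderOf x by
        obtain ⟨x, hx⟩ := H
        obtain ⟨k, hk⟩ := hnp.trans hx
        have hk0 : k ≠ 0 := fun h0 => (orderOf_pos x).ne' (by rw [hk, h0, mul_zero])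
        exact ⟨x ^ k, by rw [orderOf_pow_of_dvd hk0 (hk ▸ dvd_mul_left k n), hk,
          Nat.mul_div_cancel _ (Nat.pos_of_ne_zero hk0)]⟩
      choose a ha using fun i : Fin 5 => augGroup_orderOf_q (q := otherPrime i) (k := N + 1)
      choose b hb using fun i : Fin 5 =>
        (augGroup_kernel (q := otherPrime i) (k := N + 1)).2 (Nat.succ_pos N)
      by_cases h11 : p = 11
      · subst h11
        refine ⟨a, ?_⟩
        have hd : ∀ i, otherPrime i ∣ orderOf a := fun i => ha i ▸
          orderOf_map_dvd (Pi.evalMonoidHom (fun i => AugGroup (otherPrime i) (N + 1)) i) a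
        rw [show (43890 / 11 : ℕ) = 2 * 3 * 5 * 7 * 19 by norm_num]
        refine Nat.Coprime.mul_dvd_of_dvd_of_dvd (by norm_num) (Nat.Coprime.mul_dvd_of_dvd_of_dvd
          (by norm_num) (Nat.Coprime.mul_dvd_of_dvd_of_dvd (by norm_num)
          (Nat.Coprime.mul_dvd_of_dvd_of_dvd (by norm_num) (hd 0) (hd 1)) (hd 2)) (hd 3)) (hd 4)
      · obtain ⟨i, rfl⟩ : ∃ i, otherPrime i = p := by
          rcases hp with rfl | rfl | rfl | rfl | rfl | rfl
          · exact ⟨0, rfl⟩
          · exact ⟨1, rfl⟩
          · exact ⟨2, rfl⟩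
          · exact ⟨3, rfl⟩
          · exact absurd rfl h11
          · exact ⟨4, rfl⟩
        let x := Function.update a i (b i)
        refine ⟨x, ?_⟩
        have hev : ∀ j, orderOf (x j) ∣ orderOf x := fun j =>
          orderOf_map_dvd (Pi.evalMonoidHom (fun i => AugGroup (otherPrime i) (N + 1)) j) x
        have h1 : 11 ∣ orderOf x := by simpa [x, hb] using hev i
        have h2 : ∀ j, j ≠ i → otherPrime j ∣ orderOf x := fun j hj => by
          simpa [x, Function.update_of_ne hj, ha] using hev j
        have hall : ∀ j, otherPrime j ∣ Nat.lcm (orderOf x) (otherPrime i) := fun j => by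
          by_cases hj : j = i
          · exact hj ▸ Nat.dvd_lcm_right _ _
          · exact (h2 j hj).trans (Nat.dvd_lcm_left _ _)
        have hfull : 43890 ∣ orderOf x * otherPrime i := by
          rw [show (43890 : ℕ) = 2 * 3 * 5 * 7 * 19 * 11 by norm_num]
          refine (Nat.Coprime.mul_dvd_of_dvd_of_dvd (by norm_num [otherPrime]) (Nat.Coprime.mul_dvd_of_dvd_of_dvd
            (by norm_num [otherPrime]) (Nat.Coprime.mul_dvd_of_dvd_of_dvd (by norm_num [otherPrime])
            (Nat.Coprime.mul_dvd_of_dvd_of_dvd (by norm_num [otherPrime]) (Nat.Coprime.mul_dvd_of_dvd_of_dvd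
            (by norm_num [otherPrime]) (hall 0) (hall 1)) (hall 2)) (hall 3)) (hall 4))
            (h1.trans (Nat.dvd_lcm_left _ _))).trans
              (Nat.lcm_dvd (dvd_mul_right _ _) (dvd_mul_left _ _))
        obtain ⟨-, -, hm, -, -⟩ := otherPrime_mul_dvd i
        rw [hm, mul_comm (otherPrime i)] at hfull
        exact Nat.dvd_of_mul_dvd_mul_right (otherPrime_fact i).out.pos hfull

end CfsgLib.J1Group
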